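import Cfsg.Agent.Lib.WeilGap.WtApi
import Cfsg.Prelude.Def_Characters
import Cfsg.Agent.Lib.WeilGap.IrrParChar

/-!
# [IRRPAR] The constituents `Par s` of the Weil representation.
`finrank_Par_one`, `finrank_Par_neg`: as `Weil.Minus.finrank_SM` (`Par (-1)` is `SM`; `Par 1 ⊕ Par (-1) = WS`, dimension `q^n`).
`chiPar W s g` is the trace of `W.τ g` on `Par s`. `irrPar`: `Par s` is a simple `τ`-module: the proof of `Weil.Minus.core` (in fact for `s = -1` apply `core` verbatim: for `(g,T) ∈ EE ψ`, `T = c • τ g`). For `s = 1`: `N ≠ ⊥` invariant in `Par 1`.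
Diagonalise `UU`: by `sum_sep`, from `f ∈ N` with `f x0 ≠ 0`, `x0 ≠ 0`, `∑_B ψ(qq B x - qq B x0)`-averaging gives `dl x0 + dl (-x0) ∈ N`; if `f` is only supported at `0`, `f = dl 0`, apply `τ(sw i)` to get a function nonzero at `e_i`. Hence (LL transitive) all `fu 1 u` are in `N`; `τ (sw i) (fu 1 e_i) = cs i • (2 dl 0 + ∑_{z≠0} ..)` yields `dl 0 ∈ N`.
`isIrr_chiPar`: transport to `Fin d → ℂ` via `finBasis` as in `Weil.Final.exists_irr`; the `ρ.character` is `chiPar` (`LinearMap.trace_conj'`).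
`chiPar_one`: `trace 1 = finrank`.
`char_eq_of_hom`: `Φ|Par s` nonzero equivariant; kernel invariant so `Φ` injective on `Par s` (`irrPar`); range invariant nonzero so surjective; trace of conjugate equal.
`chiPar_ne`: let `a₁ = a₂ * c` with `c` nonsquare... assume `ψ₂ = ψ.mulShift a₂`, `ψ₁ = ψ.mulShift a₁`, `a₁/a₂` nonsquare. By `W.U`, `chiPar W s (UU B) = ∑` over a basis `{{fu s x}}` of `ψ_W (-qq B x)`. If `chiPar W₁ s = chiPar W₂ s`, then multiplying with `ψ₁ (qq B e)` (`e = e_{i}`) and summing over `B`: LHS positive (term `x = ±e`); RHS: needs `ψ₂ (-qq B x) = ψ₁ (-qq B e)` for all `B`, i.e. (take `B = t • rk1 u`) `a₂ (x·u)² = a₁ (e·u)²` for all `u`, forcing `x = λ e`, `a₂ λ² = a₁`: contradiction (RHS is `0`).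
-/

set_option autoImplicit false
set_option linter.unusedSectionVars false
set_option linter.unusedVariables false

namespace Cfsg.Agent.Lib.WeilGap.IrrPar

open Module Matrix Cfsg.Agent.Lib.SpDeg.Main Cfsg.Agent.Lib.SpDeg.Odd Cfsg.Agent.Lib.Weil.Basic
  Cfsg.Agent.Lib.Weil.Minus Cfsg.Agent.Lib.WeilGap.Defs
open scoped _root_.Classical

universe u

variable {F : Type u} [Field F] [Fintype F] {n : ℕ}

/-- The restriction of `W.τ g` to `Par s`. -/
noncomputable def tauPar {ψ : AddChar F ℂ} (W : WT (F := F) (n := n) ψ) (s : ℂ) (g : Gp F n) : Module.End ℂ (Par F n s) :=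
  (W.τ g).restrict (fun φ hφ => Cfsg.Agent.Lib.WeilGap.WtApi.par_stable W hφ g)

/-- The character of `Par s`. -/
noncomputable def chiPar {ψ : AddChar F ℂ} (W : WT (F := F) (n := n) ψ) (s : ℂ) (g : Gp F n) : ℂ :=
  LinearMap.trace ℂ (Par F n s) (tauPar W s g)

theorem finrank_Par_one (h2 : (2 : F) ≠ 0) : 2 * finrank ℂ (Par F n 1) = Fintype.card F ^ n + 1 := by
  let P : Module.End ℂ (WS F n) := (2 : ℂ)⁻¹ • (1 + II)
  have hP : ∀ φ, P φ = (2 : ℂ)⁻¹ • (φ + II φ) := fun φ => rfl
  have hid : IsIdempotentElem P := by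
    apply LinearMap.ext
    intro φ
    show P (P φ) = P φ
    rw [hP, hP, map_smul, map_add, II_II, smul_add]
    simp only [← smul_assoc]
    ext x
    simp only [Pi.add_apply, Pi.smul_apply, smul_eq_mul, map_add, map_smul]
    ring
  have hr : LinearMap.range P = Par F n 1 := by
    ext φ
    constructor
    · rintro ⟨u, rfl⟩ x
      rw [hP]
      simp only [Pi.smul_apply, Pi.add_apply, II_apply, neg_neg, smul_eq_mul]
      ring
    · intro hφ
      refine ⟨φ, ?_⟩
      rw [hP]
      funext x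
      have hφ' : φ (-x) = 1 * φ x := hφ x
      simp only [Pi.smul_apply, Pi.add_apply, II_apply, hφ', smul_eq_mul]
      ring
  have ht := (LinearMap.IsIdempotentElem.isProj_range _ hid).trace
  rw [hr] at ht
  have h3 : LinearMap.trace ℂ (WS F n) P = (2 : ℂ)⁻¹ * ((Fintype.card (Fin n → F) : ℂ) + 1) := by
    show LinearMap.trace ℂ (WS F n) ((2 : ℂ)⁻¹ • (1 + II)) = _
    rw [map_smul, map_add, trace_II h2, LinearMap.trace_one, Module.finrank_fintype_fun_eq_card, smul_eq_mul]
  rw [h3] at ht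
  have h4 : ((2 * finrank ℂ (Par F n 1) : ℕ) : ℂ) = ((Fintype.card (Fin n → F) + 1 : ℕ) : ℂ) := by
    push_cast
    rw [← ht]
    ring
  have h5 : 2 * finrank ℂ (Par F n 1) = Fintype.card (Fin n → F) + 1 := by exact_mod_cast h4
  rw [h5]
  simp [Fintype.card_fun]

theorem finrank_Par_neg (h2 : (2 : F) ≠ 0) : 2 * finrank ℂ (Par F n (-1)) + 1 = Fintype.card F ^ n := by
  have e : Par F n (-1) = SM F n := by
    ext φ
    constructor
    · intro h x
      have := h x
      simpa using this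
    · intro h x
      have := h x
      simpa using this
  rw [e, finrank_SM h2]
  simp [Fintype.card_fun]

variable {ψ : AddChar F ℂ} (W : WT (F := F) (n := n) ψ)

namespace IrrAux

lemma fu_mem_Par {s : ℂ} (hs : s * s = 1) (y : Fin n → F) : fu (F := F) (n := n) s y ∈ Par F n s := by
  intro x
  simp only [fu, Pi.add_apply, Pi.smul_apply, smul_eq_mul, dl_apply]
  have e1 : (-x = y) ↔ (x = -y) := neg_eq_iff_eq_neg
  have e2 : (-x = -y) ↔ (x = y) := neg_inj
  simp only [e1, e2]
  linear_combination (-(if x = -y then (1 : ℂ) else 0)) * hs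

/-- Any function with parity `s` vanishing at `0` is a combination of the `fu s y`. -/
lemma sum_fu {s : ℂ} (hs : s * s = 1) {φ : WS F n} (hφ : φ ∈ Par F n s) :
    (∑ y : Fin n → F, φ y • fu s y) = (2 : ℂ) • φ := by
  funext z
  simp only [Finset.sum_apply, Pi.smul_apply, smul_eq_mul, fu, Pi.add_apply, dl_apply, mul_add, Finset.sum_add_distrib]
  have e1 : ∑ y : Fin n → F, φ y * (if z = y then (1 : ℂ) else 0) = φ z := by
    simp
  have e2 : ∑ y : Fin n → F, φ y * (s * if z = -y then (1 : ℂ) else 0) = s * φ (-z) := by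
    rw [Finset.sum_eq_single (-z)]
    · simp
      ring
    · intro b _ hb
      have : z ≠ -b := by
        intro h
        apply hb
        rw [h, neg_neg]
      simp [this]
    · simp
  rw [e1, e2, hφ z]
  linear_combination (φ z) * hs

lemma mem_of_zero {s : ℂ} (hs : s * s = 1) {N : Submodule ℂ (WS F n)}
    (hfu : ∀ y : Fin n → F, y ≠ 0 → fu s y ∈ N) {φ : WS F n} (hφ : φ ∈ Par F n s) (h0 : φ 0 = 0) : φ ∈ N := by
  have hmem : (2 : ℂ) • φ ∈ N := by
    rw [← sum_fu hs hφ]
    apply Submodule.sum_mem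
    intro y _
    by_cases hy : y = 0
    · subst hy
      simp [h0]
    · exact Submodule.smul_mem _ _ (hfu y hy)
  exact (Submodule.smul_mem_iff _ (two_ne_zero)).mp hmem

lemma update_ev_eq (i : Fin n) (t : F) (x : Fin n → F) (h : ∀ j, j ≠ i → x j = 0) :
    Function.update x i t = t • ev i := by
  funext j
  by_cases hj : j = i
  · subst hj
    simp [ev]
  · simp [Function.update_of_ne hj, h j hj, ev, Pi.single_eq_of_ne hj]

lemma ev_ne (i : Fin n) : ev (F := F) i ≠ 0 := by
  intro h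
  have := congrFun h i
  simp [ev] at this

/-- `FFs ψ i (fu 1 (ev i))` does not vanish at `0`. -/
lemma FFs_fu_zero (h2 : (2 : F) ≠ 0) (i : Fin n) : FFs ψ i (fu 1 (ev i)) (0 : Fin n → F) = 2 := by
  rw [FFs_apply]
  have hu : ∀ t : F, Function.update (0 : Fin n → F) i t = t • ev i := fun t =>
    update_ev_eq i t 0 (fun _ _ => rfl)
  have hne : (1 : F) ≠ -1 := by
    intro h
    apply h2
    linear_combination h
  have hiff : ∀ t a : F, (t • ev (F := F) i = a • ev i) ↔ t = a := by
    intro t a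
    constructor
    · intro h
      have := congrFun h i
      simpa [ev] using this
    · rintro rfl
      rfl
  have hneg : - ev (F := F) i = (-1 : F) • ev i := by simp
  have h3 : ∀ t : F, ψ (t * (0 : Fin n → F) i) * (fu 1 (ev i) : WS F n) (Function.update 0 i t) =
      (if t = 1 then (1 : ℂ) else 0) + (if t = -1 then (1 : ℂ) else 0) := by
    intro t
    rw [hu t]
    have e1 : t • ev (F := F) i = ev i ↔ t = 1 := by
      have := hiff t 1
      simpa using this
    have e2 : t • ev (F := F) i = - ev i ↔ t = -1 := by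
      rw [hneg]
      exact hiff t (-1)
    simp only [Pi.zero_apply, mul_zero, AddChar.map_zero_eq_one, one_mul, fu, Pi.add_apply, Pi.smul_apply, dl_apply,
      smul_eq_mul, e1, e2]
  simp only [h3, Finset.sum_add_distrib]
  simp
  norm_num

/-- `FFs ψ i (dl 0)` does not vanish at `ev i`. -/
lemma FFs_dl_zero (i : Fin n) : FFs ψ i (dl 0) (ev (F := F) i) = 1 := by
  rw [FFs_apply, Finset.sum_eq_single 0]
  · have : Function.update (ev (F := F) i) i 0 = 0 := update_ev_eq i 0 _ (fun j hj => by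
      simp [ev, Pi.single_eq_of_ne hj]) |>.trans (by simp)
    rw [this]
    simp [dl_apply]
  · intro t _ ht
    have : Function.update (ev (F := F) i) i t ≠ 0 := by
      intro h
      have := congrFun h i
      simp at this
      exact ht this
    simp [dl_apply, this]
  · simp

end IrrAux

open IrrAux in
theorem irrPar (hn : 2 ≤ n) (h2 : (2 : F) ≠ 0) (hψ : ψ 1 ≠ 1) (s : ℂ) (hs1 : s = 1 ∨ s = -1) (N : Submodule ℂ (WS F n))
    (hN : N ≤ Par F n s) (hinv : ∀ g, ∀ φ ∈ N, W.τ g φ ∈ N) (hne : N ≠ ⊥) : Par F n s ≤ N := by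
  have hs : s * s = 1 := by
    rcases hs1 with rfl | rfl <;> norm_num
  let i₀ : Fin n := ⟨0, by omega⟩
  -- an element of `N` not vanishing at a nonzero point
  have hSW : ∀ (i : Fin n) {φ : WS F n}, φ ∈ N → FFs ψ i φ ∈ N := by
    intro i φ hφ
    have h3 := hinv (sw i) φ hφ
    rw [W.S i] at h3
    exact (Submodule.smul_mem_iff _ (W.cs i).ne_zero).mp h3
  have hUU : ∀ (B : SymM F n) {φ : WS F n}, φ ∈ N → W.τ (UU B) φ ∈ N := fun B φ hφ => hinv _ φ hφ
  -- averaging
  have hav : ∀ (f : WS F n), f ∈ N → ∀ x0 : Fin n → F, f x0 ≠ 0 → x0 ≠ 0 → fu s x0 ∈ N := by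
    intro f hfN x0 hx0 hx00
    have hodd := hN hfN
    have hneg : -x0 ≠ x0 := by
      intro h3
      apply hx00
      funext i
      have h4 := congrFun h3 i
      have h5 : (2 : F) * x0 i = 0 := by
        simp only [Pi.neg_apply] at h4
        linear_combination - h4
      exact (mul_eq_zero.mp h5).resolve_left h2
    have hmem : (∑ B : SymM F n, ψ (qq B x0) • W.τ (UU B) f) ∈ N := by
      apply Submodule.sum_mem
      intro B _
      apply Submodule.smul_mem
      exact hUU B hfN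
    have he : (∑ B : SymM F n, ψ (qq B x0) • W.τ (UU B) f) =
        ((Fintype.card (SymM F n) : ℂ) * f x0) • fu s x0 := by
      funext x
      simp only [Finset.sum_apply, Pi.smul_apply, smul_eq_mul, W.U, fu, Pi.add_apply, dl_apply]
      have h3 : ∀ B : SymM F n, ψ (qq B x0) * (ψ (- qq B x) * f x) = ψ (qq B x0 - qq B x) * f x := by
        intro B
        rw [← mul_assoc, ← AddChar.map_add_eq_mul]
        congr 2
        ring
      simp only [h3, ← Finset.sum_mul]
      by_cases hx : x = x0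
      · subst hx
        have hne' : x ≠ -x := fun h => hneg h.symm
        simp [hne']
      · by_cases hx' : x = -x0
        · subst hx'
          simp [hx, qq_neg, hodd x0]
          ring
        · have : ∑ B : SymM F n, ψ (qq B x0 - qq B x) = 0 := by
            apply sum_sep ψ h2 hψ (x := x0) (x0 := x)
            · exact fun h => hx h.symm
            · intro h
              apply hx'
              rw [h, neg_neg]
          rw [this]
          simp [hx, hx']
    rw [he] at hmem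
    have hc : (Fintype.card (SymM F n) : ℂ) * f x0 ≠ 0 := by
      apply mul_ne_zero _ hx0
      exact_mod_cast Fintype.card_ne_zero
    exact (Submodule.smul_mem_iff _ hc).mp hmem
  -- the first `fu`
  obtain ⟨x0, hx00, hfx0⟩ : ∃ x0 : Fin n → F, x0 ≠ 0 ∧ fu s x0 ∈ N := by
    obtain ⟨f, hfN, hf0⟩ := (Submodule.ne_bot_iff N).mp hne
    obtain ⟨x0, hx0⟩ : ∃ x0, f x0 ≠ 0 := by
      by_contra hcon
      push Not at hcon
      exact hf0 (funext hcon)
    by_cases hx00 : x0 = 0
    · subst hx00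
      -- `f` lives at zero or else
      by_cases hoth : ∃ y : Fin n → F, y ≠ 0 ∧ f y ≠ 0
      · obtain ⟨y, hy, hfy⟩ := hoth
        exact ⟨y, hy, hav f hfN y hfy hy⟩
      · push Not at hoth
        have hdl : f = f 0 • dl 0 := by
          funext x
          by_cases hx : x = 0
          · subst hx
            simp [dl_apply]
          · simp [dl_apply, hx, hoth x hx]
        have h3 := hSW i₀ hfN
        have h4 : FFs ψ i₀ f (ev i₀) ≠ 0 := by
          rw [hdl, map_smul, Pi.smul_apply, FFs_dl_zero]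
          simpa using hx0
        exact ⟨ev i₀, ev_ne i₀, hav _ h3 _ h4 (ev_ne i₀)⟩
    · exact ⟨x0, hx00, hav f hfN x0 hx0 hx00⟩
  -- moving it around
  have hfu : ∀ y : Fin n → F, y ≠ 0 → fu s y ∈ N := by
    intro y hy
    obtain ⟨h, hh1⟩ := Cfsg.Agent.Lib.CrossChar.SL.exists_sl_mulVec (ι := Fin n) (F := F) (by simpa using hn) hy hx00
    have hdet : (h.1)ᵀ.det ≠ 0 := by
      rw [Matrix.det_transpose, h.2]
      exact one_ne_zero
    let R : GL (Fin n) F := Matrix.GeneralLinearGroup.mkOfDetNeZero (h.1)ᵀ hdet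
    have hR : (R : Matrix (Fin n) (Fin n) F)ᵀ = h.1 := Matrix.transpose_transpose _
    have hinj : ∀ z z' : Fin n → F, h.1 *ᵥ z = h.1 *ᵥ z' → z = z' := by
      intro z z' hzz
      have h4 : (h⁻¹).1 * h.1 = 1 := congrArg Subtype.val (inv_mul_cancel h)
      have h5 : (h⁻¹).1 *ᵥ (h.1 *ᵥ z) = (h⁻¹).1 *ᵥ (h.1 *ᵥ z') := congrArg _ hzz
      rwa [Matrix.mulVec_mulVec, Matrix.mulVec_mulVec, h4, Matrix.one_mulVec, Matrix.one_mulVec] at h5
    have h4 := hinv (LL R) _ hfx0
    rw [W.L R] at h4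
    have h4' : (TRE R : WS F n ≃ₗ[ℂ] WS F n) (fu s x0) ∈ N := by
      have := (Submodule.smul_mem_iff _ (W.κ R).ne_zero).mp h4
      exact this
    have h5 : (TRE R : WS F n ≃ₗ[ℂ] WS F n) (fu s x0) = fu s y := by
      funext z
      rw [TRE_apply, hR]
      simp only [fu, Pi.add_apply, Pi.smul_apply, dl_apply, smul_eq_mul]
      have e1 : (h.1 *ᵥ z = x0) ↔ z = y := by
        constructor
        · intro e
          exact hinj _ _ (by rw [e, hh1])
        · rintro rfl
          exact hh1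
      have e2 : (h.1 *ᵥ z = -x0) ↔ z = -y := by
        constructor
        · intro e
          exact hinj _ _ (by rw [e, Matrix.mulVec_neg, hh1])
        · rintro rfl
          rw [Matrix.mulVec_neg, hh1]
      simp only [e1, e2]
    exact h5 ▸ h4'
  -- conclusion
  intro φ hφ
  rcases hs1 with rfl | rfl
  · -- `s = 1`: `dl 0 ∈ N`
    have hdlP : dl (0 : Fin n → F) ∈ Par F n (1 : ℂ) := by
      intro x
      simp only [dl_apply, neg_eq_zero, one_mul]
    have hG := hSW i₀ (hfu (ev i₀) (ev_ne i₀))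
    have hGP := hN hG
    have hG0 := FFs_fu_zero (ψ := ψ) h2 i₀
    have hK : FFs ψ i₀ (fu 1 (ev i₀)) - (2 : ℂ) • dl (0 : Fin n → F) ∈ N := by
      apply mem_of_zero hs hfu
      · exact Submodule.sub_mem _ hGP (Submodule.smul_mem _ _ hdlP)
      · simp [hG0, dl_apply]
    have hd : dl (0 : Fin n → F) ∈ N := by
      have h3 := Submodule.sub_mem _ hG hK
      rw [sub_sub_cancel] at h3
      exact (Submodule.smul_mem_iff _ (two_ne_zero)).mp h3
    have h5 : φ - φ 0 • dl (0 : Fin n → F) ∈ N := by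
      apply mem_of_zero hs hfu
      · exact Submodule.sub_mem _ hφ (Submodule.smul_mem _ _ hdlP)
      · simp [dl_apply]
    have h6 := Submodule.add_mem _ h5 (Submodule.smul_mem N (φ 0) hd)
    rwa [sub_add_cancel] at h6
  · apply mem_of_zero hs hfu hφ
    have h3 := hφ 0
    rw [neg_zero] at h3
    have h4 : (2 : ℂ) * φ 0 = 0 := by linear_combination h3
    simpa using h4


open IrrAux in
theorem isIrr_chiPar (hn : 2 ≤ n) (h2 : (2 : F) ≠ 0) (hψ : ψ 1 ≠ 1) (s : ℂ) (hs1 : s = 1 ∨ s = -1) :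
    Cfsg.IsIrrCharacter (Gp F n) (chiPar W s) := by
  have hs : s * s = 1 := by
    rcases hs1 with rfl | rfl <;> norm_num
  have hinvP : ∀ g, ∀ φ ∈ Par F n s, W.τ g φ ∈ Par F n s := fun g φ hφ =>
    Cfsg.Agent.Lib.WeilGap.WtApi.par_stable W hφ g
  -- `Par s` is not trivial
  let i : Fin n := ⟨0, by omega⟩
  have hP0 : ∃ φ ∈ Par F n s, φ ≠ 0 := by
    refine ⟨fu s (ev i), fu_mem_Par hs _, ?_⟩
    intro h
    have h3 := congrFun h (ev i)
    have hne : ev (F := F) i ≠ - ev i := by
      intro h4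
      have h5 := congrFun h4 i
      simp only [ev, Pi.neg_apply, Pi.single_eq_same] at h5
      apply h2
      linear_combination h5
    simp [fu, dl_apply, hne] at h3
  have hdpos : 0 < finrank ℂ (Par F n s) := by
    obtain ⟨φ, hφ, hφ0⟩ := hP0
    have hnt : Nontrivial (Par F n s) := ⟨⟨⟨φ, hφ⟩, 0, fun h => hφ0 (congrArg Subtype.val h)⟩⟩
    exact Module.finrank_pos
  let e : Par F n s ≃ₗ[ℂ] (Fin (finrank ℂ (Par F n s)) → ℂ) := LinearEquiv.ofFinrankEq _ _ (by simp)
  let ρ : Representation ℂ (Gp F n) (Fin (finrank ℂ (Par F n s)) → ℂ) :=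
    { toFun := fun g => e.toLinearMap ∘ₗ (tauPar W s g) ∘ₗ e.symm.toLinearMap
      map_one' := by
        apply LinearMap.ext
        intro w
        show e (tauPar W s 1 (e.symm w)) = w
        have : tauPar W s 1 (e.symm w) = e.symm w := by
          apply Subtype.ext
          show W.τ 1 (e.symm w : WS F n) = _
          rw [map_one]
          rfl
        rw [this, e.apply_symm_apply]
      map_mul' := by
        intro g h
        apply LinearMap.ext
        intro w
        show e (tauPar W s (g * h) (e.symm w)) =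
          e (tauPar W s g (e.symm (e (tauPar W s h (e.symm w)))))
        rw [e.symm_apply_apply]
        congr 1
        apply Subtype.ext
        show W.τ (g * h) (e.symm w : WS F n) = W.τ g (W.τ h (e.symm w : WS F n))
        rw [map_mul]
        rfl }
  have hρ : ∀ g w, (e.symm (ρ g w) : WS F n) = W.τ g (e.symm w : WS F n) := by
    intro g w
    show (e.symm (e (tauPar W s g (e.symm w))) : WS F n) = _
    rw [e.symm_apply_apply]
    rfl
  refine ⟨_, ρ, ?_, ?_⟩
  · have hnt : Nontrivial (Fin (finrank ℂ (Par F n s)) → ℂ) := by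
      haveI : Nonempty (Fin (finrank ℂ (Par F n s))) := ⟨⟨0, hdpos⟩⟩
      infer_instance
    refine { exists_pair_ne := ⟨⊥, ⊤, ?_⟩, eq_bot_or_eq_top := ?_ }
    · intro h
      have h3 := congrArg Subrepresentation.toSubmodule h
      have h4 : (⊥ : Submodule ℂ (Fin (finrank ℂ (Par F n s)) → ℂ)) = ⊤ := h3
      exact bot_ne_top h4
    · intro L
      let N : Submodule ℂ (WS F n) := (L.toSubmodule.map (e.symm : _ →ₗ[ℂ] Par F n s)).map (Par F n s).subtype
      have hmemN : ∀ φ, φ ∈ N ↔ ∃ w ∈ L.toSubmodule, (e.symm w : WS F n) = φ := by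
        intro φ
        constructor
        · rintro ⟨_, ⟨w, hw, rfl⟩, rfl⟩
          exact ⟨w, hw, rfl⟩
        · rintro ⟨w, hw, rfl⟩
          exact ⟨_, ⟨w, hw, rfl⟩, rfl⟩
      have hNP : N ≤ Par F n s := by
        intro φ hφ
        obtain ⟨w, _, rfl⟩ := (hmemN φ).mp hφ
        exact (e.symm w).2
      have hinv : ∀ g, ∀ φ ∈ N, W.τ g φ ∈ N := by
        intro g φ hφ
        obtain ⟨w, hw, rfl⟩ := (hmemN φ).mp hφ
        exact (hmemN _).mpr ⟨ρ g w, L.apply_mem_toSubmodule _ hw, hρ _ _⟩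
      by_cases hN : N = ⊥
      · left
        apply Subrepresentation.toSubmodule_injective
        show L.toSubmodule = ⊥
        rw [eq_bot_iff]
        intro w hw
        have h3 : (e.symm w : WS F n) ∈ N := (hmemN _).mpr ⟨w, hw, rfl⟩
        rw [hN, Submodule.mem_bot] at h3
        have h4 : e.symm w = 0 := Subtype.ext h3
        simpa using h4
      · right
        apply Subrepresentation.toSubmodule_injective
        show L.toSubmodule = ⊤
        rw [eq_top_iff]
        intro w _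
        have h3 := irrPar W hn h2 hψ s hs1 N hNP hinv hN (e.symm w).2
        obtain ⟨w', hw', h4⟩ := (hmemN _).mp h3
        have h5 : e.symm w' = e.symm w := Subtype.ext h4
        rw [e.symm.injective h5] at hw'
        exact hw'
  · funext g
    show LinearMap.trace ℂ _ (ρ g) = chiPar W s g
    unfold chiPar
    exact LinearMap.trace_conj' (tauPar W s g) e


theorem chiPar_one (s : ℂ) : chiPar W s 1 = (finrank ℂ (Par F n s) : ℂ) := by
  have e : tauPar W s 1 = 1 := by
    apply LinearMap.ext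
    intro φ
    apply Subtype.ext
    show W.τ 1 φ.1 = φ.1
    rw [map_one]
    rfl
  rw [chiPar, e, LinearMap.trace_one]

theorem char_eq_of_hom (hn : 2 ≤ n) (h2 : (2 : F) ≠ 0) (hψ : ψ 1 ≠ 1) (s : ℂ) (hs1 : s = 1 ∨ s = -1) {k : ℕ}
    (ρ : Representation ℂ (Gp F n) (Fin k → ℂ)) (hirr : ρ.IsIrreducible)
    (Φ : WS F n →ₗ[ℂ] (Fin k → ℂ)) (hΦ : ∃ φ ∈ Par F n s, Φ φ ≠ 0)
    (hΦe : ∀ g, ∀ φ ∈ Par F n s, Φ (W.τ g φ) = ρ g (Φ φ)) : ρ.character = chiPar W s :=
  Cfsg.Agent.Lib.WeilGap.IrrParChar.char_eq W.τ (Par F n s) (fun g φ hφ => Cfsg.Agent.Lib.WeilGap.WtApi.par_stable W hφ g)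
    (fun N hN hinv hne => irrPar W hn h2 hψ s hs1 N hN hinv hne) ρ hirr Φ hΦ hΦe

namespace IrrAux

/-- The projection on `Par s`. -/
noncomputable def rP (s : ℂ) : WS F n →ₗ[ℂ] WS F n := (2 : ℂ)⁻¹ • (1 + s • II)

lemma rP_apply (s : ℂ) (φ : WS F n) (x : Fin n → F) : rP s φ x = (2 : ℂ)⁻¹ * (φ x + s * φ (-x)) := rfl

lemma rP_mem {s : ℂ} (hs : s * s = 1) (φ : WS F n) : rP s φ ∈ Par F n s := by
  intro x
  simp only [rP_apply, neg_neg]
  linear_combination (-(2 : ℂ)⁻¹ * φ (-x)) * hs

lemma rP_fix {s : ℂ} (hs : s * s = 1) {φ : WS F n} (hφ : φ ∈ Par F n s) : rP s φ = φ := by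
  funext x
  rw [rP_apply, hφ x]
  linear_combination ((2 : ℂ)⁻¹ * φ x) * hs

lemma chiPar_eq {s : ℂ} (hs : s * s = 1) (g : Gp F n) :
    chiPar W s g = LinearMap.trace ℂ (WS F n) (W.τ g ∘ₗ rP s) := by
  let r : WS F n →ₗ[ℂ] Par F n s := (rP s).codRestrict (Par F n s) (rP_mem hs)
  have h1 : W.τ g ∘ₗ rP s = ((W.τ g) ∘ₗ (Par F n s).subtype) ∘ₗ r := by
    apply LinearMap.ext
    intro φ
    rfl
  rw [h1, LinearMap.trace_comp_comm']
  unfold chiPar
  congr 1
  apply LinearMap.ext
  intro φ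
  apply Subtype.ext
  show W.τ g (φ : WS F n) = rP s (W.τ g (φ : WS F n))
  rw [rP_fix hs (Cfsg.Agent.Lib.WeilGap.WtApi.par_stable W φ.2 g)]

lemma chiPar_UU (h2 : (2 : F) ≠ 0) {s : ℂ} (hs : s * s = 1) (B : SymM F n) :
    chiPar W s (UU B) = (2 : ℂ)⁻¹ * (∑ x, ψ (- qq B x) + s) := by
  rw [chiPar_eq W hs, LinearMap.trace_eq_matrix_trace ℂ (Pi.basisFun ℂ (Fin n → F)), Matrix.trace]
  have h : ∀ x : Fin n → F, (LinearMap.toMatrix (Pi.basisFun ℂ (Fin n → F)) (Pi.basisFun ℂ (Fin n → F))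
      (W.τ (UU B) ∘ₗ rP s)) x x = (2 : ℂ)⁻¹ * (ψ (- qq B x) + s * (if x = 0 then 1 else 0)) := by
    intro x
    rw [LinearMap.toMatrix_apply]
    simp only [Pi.basisFun_apply, Pi.basisFun_repr, LinearMap.comp_apply]
    rw [W.U, rP_apply]
    simp only [Pi.single_apply]
    by_cases hx : x = 0
    · subst hx
      simp [qq]
    · have : -x ≠ x := by
        intro h3
        apply hx
        funext i
        have h4 := congrFun h3 i
        have h5 : (2 : F) * x i = 0 := by
          simp only [Pi.neg_apply] at h4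
          linear_combination - h4
        exact (mul_eq_zero.mp h5).resolve_left h2
      simp [hx, this]
      ring
  simp only [Matrix.diag_apply, h]
  rw [← Finset.mul_sum, Finset.sum_add_distrib, ← Finset.mul_sum]
  simp

lemma qq_pl_single (h2 : (2 : F) ≠ 0) (i : Fin n) (y : Fin n → F) :
    qq (pl (ev i) (ev i)) y = (y i) ^ 2 := by
  have hp : ∀ (u w y : Fin n → F), y ⬝ᵥ (pl u w).1 *ᵥ y = 2 * ((y ⬝ᵥ u) * (y ⬝ᵥ w)) := by
    intro u w y
    show y ⬝ᵥ (vecMulVec u w + vecMulVec w u) *ᵥ y = _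
    rw [Matrix.add_mulVec, Matrix.vecMulVec_mulVec, Matrix.vecMulVec_mulVec, dotProduct_add]
    simp only [dotProduct_smul, smul_eq_mul, dotProduct_comm w y, dotProduct_comm u y, MulOpposite.smul_eq_mul_unop,
      MulOpposite.unop_op]
    ring
  have hh2 : hh F * 2 = 1 := by
    have := hh_add h2
    linear_combination this
  simp only [qq, hp, ev, dotProduct_single, mul_one]
  linear_combination (y i) ^ 2 * hh2

end IrrAux

open IrrAux in
theorem chiPar_ne (hn : 2 ≤ n) (h2 : (2 : F) ≠ 0) (ψ₀ : AddChar F ℂ) (a₁ a₂ : F) (ha₁ : a₁ ≠ 0) (ha₂ : a₂ ≠ 0)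
    (hns : ¬ IsSquare (a₁ / a₂)) (W₁ : WT (F := F) (n := n) (ψ₀.mulShift a₁)) (W₂ : WT (F := F) (n := n) (ψ₀.mulShift a₂))
    (hψ₁ : ψ₀ a₁ ≠ 1) (hψ₂ : ψ₀ a₂ ≠ 1) (s : ℂ) (hs1 : s = 1 ∨ s = -1) : chiPar W₁ s ≠ chiPar W₂ s := by
  intro heq
  have hs : s * s = 1 := by
    rcases hs1 with rfl | rfl <;> norm_num
  have h1 : ∀ B : SymM F n, ∑ x, (ψ₀.mulShift a₁) (- qq B x) = ∑ x, (ψ₀.mulShift a₂) (- qq B x) := by
    intro B
    have := congrFun heq (UU B)
    rw [chiPar_UU W₁ h2 hs, chiPar_UU W₂ h2 hs] at this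
    have h3 := mul_left_cancel₀ (inv_ne_zero two_ne_zero) this
    exact add_right_cancel h3
  let i : Fin n := ⟨0, by omega⟩
  let e : Fin n → F := ev i
  have hψ₁' : (ψ₀.mulShift a₁) 1 ≠ 1 := by
    rw [AddChar.mulShift_apply, mul_one]
    exact hψ₁
  have hene : e ≠ -e := by
    intro h
    have h3 := congrFun h i
    simp only [e, ev, Pi.neg_apply, Pi.single_eq_same] at h3
    apply h2
    linear_combination h3
  have hL : (∑ B : SymM F n, (ψ₀.mulShift a₁) (qq B e) * ∑ x, (ψ₀.mulShift a₁) (- qq B x)) =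
      2 * (Fintype.card (SymM F n) : ℂ) := by
    simp only [Finset.mul_sum]
    rw [Finset.sum_comm]
    have h3 : ∀ (x : Fin n → F) (B : SymM F n), (ψ₀.mulShift a₁) (qq B e) * (ψ₀.mulShift a₁) (- qq B x) =
        (ψ₀.mulShift a₁) (qq B e - qq B x) := by
      intro x B
      rw [← AddChar.map_add_eq_mul, sub_eq_add_neg]
    simp only [h3]
    have h4 : ∀ x : Fin n → F, (∑ B : SymM F n, (ψ₀.mulShift a₁) (qq B e - qq B x)) =
        (if x = e then (Fintype.card (SymM F n) : ℂ) else 0) + (if x = -e then (Fintype.card (SymM F n) : ℂ) else 0) := by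
      intro x
      by_cases hx : x = e
      · subst hx
        simp [hene]
      · by_cases hx' : x = -e
        · subst hx'
          simp [qq_neg, hx]
        · rw [sum_sep (ψ₀.mulShift a₁) h2 hψ₁' (x := e) (x0 := x) (fun h => hx h.symm)
            (fun h => hx' (by rw [h, neg_neg]))]
          simp [hx, hx']
    simp only [h4, Finset.sum_add_distrib]
    simp
    ring
  have hR : (∑ B : SymM F n, (ψ₀.mulShift a₁) (qq B e) * ∑ x, (ψ₀.mulShift a₂) (- qq B x)) = 0 := by
    simp only [Finset.mul_sum]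
    rw [Finset.sum_comm]
    apply Finset.sum_eq_zero
    intro x _
    have hne : a₁ - a₂ * (x i) ^ 2 ≠ 0 := by
      intro h
      apply hns
      refine ⟨x i, ?_⟩
      rw [div_eq_iff ha₂]
      linear_combination h
    let c : F := a₁ / (a₁ - a₂ * (x i) ^ 2)
    have hc : c * (a₁ - a₂ * (x i) ^ 2) = a₁ := div_mul_cancel₀ _ hne
    let B₁ : SymM F n := c • pl e e
    have hq : ∀ y : Fin n → F, qq B₁ y = c * (y i) ^ 2 := by
      intro y
      rw [qq_smul, qq_pl_single h2]
    have hee : e i = 1 := by simp [e, ev]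
    have hshift : ∀ B : SymM F n, (ψ₀.mulShift a₁) (qq (B + B₁) e) * (ψ₀.mulShift a₂) (- qq (B + B₁) x) =
        ((ψ₀.mulShift a₁) (qq B e) * (ψ₀.mulShift a₂) (- qq B x)) * ψ₀ a₁ := by
      intro B
      simp only [qq_add_left, hq, hee, AddChar.mulShift_apply]
      have e1 : a₁ * (qq B e + c * 1 ^ 2) = a₁ * qq B e + a₁ * c := by ring
      have e2 : a₂ * -(qq B x + c * x i ^ 2) = a₂ * - qq B x + a₂ * (- (c * x i ^ 2)) := by ring
      rw [e1, e2, AddChar.map_add_eq_mul, AddChar.map_add_eq_mul]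
      have e3 : ψ₀ (a₁ * c) * ψ₀ (a₂ * (- (c * x i ^ 2))) = ψ₀ a₁ := by
        rw [← AddChar.map_add_eq_mul]
        congr 1
        linear_combination hc
      rw [← e3]
      ring
    have h := Equiv.sum_comp (Equiv.addRight B₁) (fun B : SymM F n => (ψ₀.mulShift a₁) (qq B e) * (ψ₀.mulShift a₂) (- qq B x))
    simp only [Equiv.coe_addRight, hshift, ← Finset.sum_mul] at h
    have h5 : (∑ B : SymM F n, (ψ₀.mulShift a₁) (qq B e) * (ψ₀.mulShift a₂) (- qq B x)) * (ψ₀ a₁ - 1) = 0 := by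
      linear_combination h
    exact (mul_eq_zero.mp h5).resolve_right (sub_ne_zero.mpr hψ₁)
  have hE : (∑ B : SymM F n, (ψ₀.mulShift a₁) (qq B e) * ∑ x, (ψ₀.mulShift a₁) (- qq B x)) =
      (∑ B : SymM F n, (ψ₀.mulShift a₁) (qq B e) * ∑ x, (ψ₀.mulShift a₂) (- qq B x)) := by
    simp only [h1]
  rw [hL, hR] at hE
  have hcard : (Fintype.card (SymM F n) : ℂ) ≠ 0 := by
    exact_mod_cast Fintype.card_ne_zero
  exact mul_ne_zero two_ne_zero hcard hE



end Cfsg.Agent.Lib.WeilGap.IrrPar
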