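import Cfsg.Agent.Lib.WeilGap.Defs
import Cfsg.Agent.Lib.WeilGap.DegGapAux
import Cfsg.Agent.Lib.WeilGap.OrbitGapDC

/-!
# [ORBITGAP] The orbit of a form of rank `≥ 2`. `orb` is from `SpDeg.Orbit`, `IsQo`, `po` from `SpDeg.Odd`.
`orbit_gap`. PAPER PROOF (generalise to a finite-dim `V`, or use `card_orb_congr`, then induct on `n`; `N(n) := (q^n-1)(q^n-q)`).
Pick `x, y` with `Δ := 4 Q x Q y - po x y ^ 2 ≠ 0`, `U := ⟨x, y⟩`, `V = U ⊥ W` (`W` = polar-orthogonal of `U`).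
Case 1: `Q|W = 0`. Then `Q = Q₂ ∘ π₀`, `π₀ : V → U` surjective projection along `W`. Count surjective linear `π : V → F²`: `N(n)` of them (pairs of independent functionals); each `Q₂ ∘ π` is in the orbit
(`π = π₀ ∘ g`). Fibres: `Q₂ ∘ π = Q₂ ∘ π'` forces `ker π = ker π' = rad`, `π' = h π`, `h ∈ O(Q₂)`, and `|O(Q₂)| ≤ 2 (q+1)`: `h` is determined by `(h e₁, h e₂)`, with `e₁, e₂` orthogonal basis of `F²`, `Q₂ e₁ ≠ 0`; `h e₁` is one of at most `q + 1` vectors (`Q₂ = c` on at most `q + 1` points: each line through a fixed point of `{{Q₂ = c}}` meets it in at most one other; or `SpDeg.Odd.card_value_le`) and `h e₂` is determined up to sign by being orthogonal to `h e₁` with given `Q₂`.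
Case 2: `Q|W ≠ 0` (then `n ≥ 3`). `Q|U` is universal on nonzero values: for `c ≠ 0` there is `e_c ∈ U` with `Q e_c = c` (`Q|U` nondegenerate binary: `Q|U = a X² + b Y²`, `a, b ≠ 0`, value sets of `aX²` and `c - bY²` have size `(q+1)/2`, they meet). Pick `w ∈ W` with `Q w ≠ 0`.
For each `c ≠ 0`, `e_c^⊥ =: H_c` (polar-orthogonal hyperplane) contains `U ∩ e_c^⊥` (one non-isotropic vector `f`) and `w`, with `Δ(f, w) = 4 Q f Q w ≠ 0`. So IH applies to `Q|H_c`: `|orb(Q|H_c)| * 2(q+1) ≥ N(n-1)`.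
Fix `e₀ ≠ 0`. The forms `Q' ∈ orb Q` with `Q' e₀ = c`: for each functional `ℓ` with `ℓ e₀ = 1` (`q^{n-1}` of them) and each `Q₁ ∈ orb(Q|H_c)` on `H₀` (a fixed complement of `e₀`, identified with `H_c`), the form `x ↦ c ℓ(x)² + Q₁(x - ℓ(x) e₀ projected..)` lies in `orb Q` (`g e₀ = e_c`, `g (ker ℓ) = H_c`), and `(ℓ, Q₁)` is recovered from it (`po' e₀ x = 2 c ℓ x`, restriction to `ker ℓ`). So
`|orb Q| ≥ (q-1) q^{n-1} |orb_{n-1}|`; with `(q-1) q^{n-1} N(n-1) ≥ N(n)` for `n ≥ 3`, `q ≥ 3`.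
`deg_gap`. Exactly as `SpDeg.Odd.bound_of_weight`, with `orbit_gap` in place of `orbit_odd` and `po_qfo`: `4 qfo x qfo y ≠ (po (qfo f) x y)^2` is `¬ R1 f`.
-/

set_option autoImplicit false
set_option linter.unusedSectionVars false
set_option linter.unusedVariables false

namespace Cfsg.Agent.Lib.WeilGap.OrbitGap

open Module Matrix Cfsg.Agent.Lib.SpDeg.Main Cfsg.Agent.Lib.SpDeg.Odd Cfsg.Agent.Lib.Weil.Basic
  Cfsg.Agent.Lib.Weil.Minus Cfsg.Agent.Lib.WeilGap.Defs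
open scoped _root_.Classical

universe u

variable {F : Type u} [Field F] [Fintype F] {n : ℕ}

open Cfsg.Agent.Lib.SpDeg.Orbit

theorem orbit_gap (h2 : (2 : F) ≠ 0) {Q : (Fin n → F) → F} (hQ : IsQo Q) (hnot : ∃ x y, 4 * Q x * Q y ≠ po Q x y ^ 2) :
    (Fintype.card F ^ n - 1) * (Fintype.card F ^ n - Fintype.card F) ≤ 2 * (Fintype.card F + 1) * (orb Q).card :=
  OrbitGapDC.orbit_gap_dc h2 hQ hnot

theorem deg_gap {V : Type*} [AddCommGroup V] [Module ℂ V] [FiniteDimensional ℂ V] {ψ : AddChar F ℂ}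
    (ρ : Gp F n →* Module.End ℂ V) (h2 : (2 : F) ≠ 0) (hψ : ψ 1 ≠ 1) (hn : 2 ≤ n)
    {f : Module.Dual F (SymM F n)} (hf : WW ψ ρ f ≠ ⊥) (hnot : ¬ R1 f) :
    (Fintype.card F ^ n - 1) * (Fintype.card F ^ n - Fintype.card F) ≤ 2 * (Fintype.card F + 1) * finrank ℂ V :=
  Cfsg.Agent.Lib.WeilGap.DegGapAux.deg_gap_aux ρ hψ (fun hQ hnot => orbit_gap h2 hQ hnot) hf hnot


end Cfsg.Agent.Lib.WeilGap.OrbitGap
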