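import Mathlib

/-!
# `OrbitGapU.card_ind` and `exists_equiv_pair`, standalone (predicate `Ind` spelled out).
-/

set_option autoImplicit false
set_option linter.unusedSectionVars false
set_option linter.unusedVariables false

namespace Cfsg.Agent.Lib.WeilGap.OrbitGapUInd

open Module

universe u

variable {F : Type u} [Field F] [Fintype F] {n : ℕ}

theorem card_ind_aux (P : (Fin n → F) → (Fin n → F) → Prop)
    (hP : ∀ v₁ v₂, P v₁ v₂ ↔ (v₁ ≠ 0 ∧ ∀ t : F, v₂ ≠ t • v₁)) [DecidablePred (fun p : (Fin n → F) × (Fin n → F) => P p.1 p.2)] :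
    (Finset.univ.filter (fun p : (Fin n → F) × (Fin n → F) => P p.1 p.2)).card =
      (Fintype.card F ^ n - 1) * (Fintype.card F ^ n - Fintype.card F) := by
  classical
  have hline : ∀ w : Fin n → F, w ≠ 0 →
      (Finset.univ.filter (fun y : Fin n → F => ∀ t : F, y ≠ t • w)).card =
        Fintype.card F ^ n - Fintype.card F := by
    intro w hw
    have h1 : (Finset.univ.filter (fun y : Fin n → F => ∀ t : F, y ≠ t • w)) =
        Finset.univ \ (Finset.univ.image (fun t : F => t • w)) := by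
      ext y
      simp [eq_comm]
    rw [h1, Finset.card_sdiff_of_subset (Finset.subset_univ _), Finset.card_univ,
      Finset.card_image_of_injective _ (smul_left_injective F hw)]
    simp [Finset.card_univ]
  have h3 : (Finset.univ.filter (fun p : (Fin n → F) × (Fin n → F) => P p.1 p.2)).card =
      ∑ w ∈ Finset.univ.filter (fun w : Fin n → F => w ≠ 0),
        (Finset.univ.filter (fun y : Fin n → F => ∀ t : F, y ≠ t • w)).card := by
    rw [← Finset.card_sigma]
    refine Finset.card_nbij' (fun p => ⟨p.1, p.2⟩) (fun s => (s.1, s.2)) ?_ ?_ ?_ ?_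
    · intro p hp
      have := (hP _ _).1 (Finset.mem_filter.mp hp).2
      simp only [Finset.coe_sigma, Set.mem_sigma_iff, Finset.mem_coe, Finset.mem_filter, Finset.mem_univ, true_and]
      exact this
    · intro s hs
      simp only [Finset.coe_sigma, Set.mem_sigma_iff, Finset.mem_coe, Finset.mem_filter, Finset.mem_univ, true_and] at hs
      simp only [Finset.coe_filter, Finset.mem_univ, true_and, Set.mem_setOf_eq]
      exact (hP _ _).2 hs
    · intro p _; rfl
    · intro s _; rfl
  rw [h3]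
  rw [Finset.sum_congr rfl (fun w hw => hline w (Finset.mem_filter.mp hw).2), Finset.sum_const, smul_eq_mul]
  congr 1
  have : (Finset.univ.filter (fun w : Fin n → F => w ≠ 0)) = Finset.univ.erase 0 := by
    ext w; simp
  rw [this, Finset.card_erase_of_mem (Finset.mem_univ _), Finset.card_univ]
  simp

theorem exists_equiv_pair_aux {v₁ v₂ u v : Fin n → F}
    (h1 : v₁ ≠ 0 ∧ ∀ t : F, v₂ ≠ t • v₁) (h2 : u ≠ 0 ∧ ∀ t : F, v ≠ t • u) :
    ∃ g : (Fin n → F) ≃ₗ[F] (Fin n → F), g v₁ = u ∧ g v₂ = v := by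
  classical
  have key : ∀ {a b : Fin n → F}, (a ≠ 0 ∧ ∀ t : F, b ≠ t • a) → LinearIndependent F ![a, b] := by
    intro a b h
    rw [LinearIndependent.pair_iff]
    intro s t hst
    by_cases ht : t = 0
    · subst ht
      simp only [zero_smul, add_zero] at hst
      exact ⟨(smul_eq_zero.mp hst).resolve_right h.1, rfl⟩
    · exfalso
      refine h.2 (-(t⁻¹ * s)) ?_
      have : t • b = (-s) • a := by
        rw [neg_smul]
        exact eq_neg_of_add_eq_zero_right hst
      calc b = t⁻¹ • (t • b) := by rw [smul_smul, inv_mul_cancel₀ ht, one_smul]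
        _ = t⁻¹ • ((-s) • a) := by rw [this]
        _ = (-(t⁻¹ * s)) • a := by rw [smul_smul]; congr 1; ring
  have l1 := key h1
  have l2 := key h2
  set W₁ := Submodule.span F (Set.range ![v₁, v₂]) with hW₁
  set W₂ := Submodule.span F (Set.range ![u, v]) with hW₂
  let b₁ : Basis (Fin 2) F W₁ := Basis.span l1
  let b₂ : Basis (Fin 2) F W₂ := Basis.span l2
  let e₀ : W₁ ≃ₗ[F] W₂ := b₁.equiv b₂ (Equiv.refl _)
  obtain ⟨C₁, hC₁⟩ := Submodule.exists_isCompl W₁
  obtain ⟨C₂, hC₂⟩ := Submodule.exists_isCompl W₂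
  have hrW : finrank F W₁ = finrank F W₂ := by
    rw [finrank_eq_card_basis b₁, finrank_eq_card_basis b₂]
  have hr : finrank F C₁ = finrank F C₂ := by
    have a1 := Submodule.finrank_add_eq_of_isCompl hC₁
    have a2 := Submodule.finrank_add_eq_of_isCompl hC₂
    omega
  let e₁ : C₁ ≃ₗ[F] C₂ := LinearEquiv.ofFinrankEq _ _ hr
  let g : (Fin n → F) ≃ₗ[F] (Fin n → F) :=
    (Submodule.prodEquivOfIsCompl W₁ C₁ hC₁).symm ≪≫ₗ (e₀.prodCongr e₁) ≪≫ₗ
      (Submodule.prodEquivOfIsCompl W₂ C₂ hC₂)
  have hg : ∀ i : Fin 2, g (![v₁, v₂] i) = ![u, v] i := by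
    intro i
    have hi : (![v₁, v₂] i) = (b₁ i : Fin n → F) := by
      exact congrArg Subtype.val (Basis.span_apply l1 i).symm
    have hi2 : (![u, v] i) = (b₂ i : Fin n → F) := by
      exact congrArg Subtype.val (Basis.span_apply l2 i).symm
    rw [hi, hi2]
    simp only [g, LinearEquiv.trans_apply]
    rw [Submodule.prodEquivOfIsCompl_symm_apply_left]
    simp [e₀]
  exact ⟨g, hg 0, hg 1⟩

end Cfsg.Agent.Lib.WeilGap.OrbitGapUInd
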